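import Cfsg.Agent.Lib.Bender.Defs
import Cfsg.Agent.Lib.Invol.StronglyEmbedded
import Cfsg.Agent.Lib.CFun.OddCores
import Cfsg.Agent.Lib.CFun.OddStable
import Cfsg.Agent.Lib.PGroup.ZJFailure
import Cfsg.Agent.Lib.PushUp.Offender
import Cfsg.Agent.Lib.Coprime.SquareFixed.Minimal
import Cfsg.Agent.S0205

/-!
# Maximal subgroups of odd order transitive on the involutions: basic facts

`MaxOdd M`: the group has trivial `O(X)` and `O₂(X)`, commuting involutions, no strongly embedded subgroup,
and `M` is maximal of odd order and transitive on the involutions. Then `M` is the normalizer of each of its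
non-trivial normal subgroups, the commuting graph of the involutions is connected, and it suffices to find a
prime `r` with the normalizer of a Sylow `r`-subgroup of `M` inside `M`.
-/

set_option autoImplicit false
set_option linter.unusedSectionVars false
set_option linter.style.haveILetI false

open Subgroup
open CfsgLib.CFun (core coCore)

namespace CfsgLib.Bender

universe u

variable {X : Type u} [Group X] [Finite X]

/-- The hypotheses on a maximal subgroup of odd order transitive on the involutions. -/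
structure MaxOdd (M : Subgroup X) : Prop where
  oddCore : Cfsg.pPrimeCore 2 X = ⊥
  twoCore : Cfsg.pCore 2 X = ⊥
  pair : HasPair X
  noSE : ∀ Y : Subgroup X, ¬ Cfsg.IsStronglyEmbedded Y
  odd : Odd (Nat.card M)
  max : ∀ M' : Subgroup X, M ≤ M' → Odd (Nat.card M') → M' = M
  trans : InvTrans M

theorem odd_card_of_no_invol {K : Subgroup X} (h : ∀ v ∈ K, orderOf v ≠ 2) : Odd (Nat.card K) := by
  rw [← Nat.not_even_iff_odd]
  intro he
  obtain ⟨t, ht, hto⟩ := CfsgLib.Invol.exists_invol_mem he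
  exact h t ht hto

theorem isSolvable_of_odd_card {K : Subgroup X} (h : Odd (Nat.card K)) : Group.IsSolvable K :=
  Cfsg.Agent.S0205.result h

/-- A Sylow subgroup of a subgroup containing its normalizer is a Sylow subgroup of the whole group. -/
theorem isSylowIn_top_of_normalizer_le {p : ℕ} [hp : Fact p.Prime] {R K : Subgroup X}
    (hR : CfsgLib.Coprime.IsSylowIn p R K) (hN : normalizer (R : Set X) ≤ K) :
    CfsgLib.Coprime.IsSylowIn p R ⊤ := by
  obtain ⟨S, hS⟩ := hR.isPGroup.exists_le_sylow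
  have hmax : ∀ Q : Subgroup X, IsPGroup p Q → R ≤ Q → Q ≤ K → Q ≤ R := fun Q hQ hRQ hQK => by
    have h1 : Nat.card Q ≤ Nat.card R := by
      obtain ⟨k, hk⟩ := IsPGroup.iff_card.1 hQ
      rw [hk, hR.2]
      exact Nat.pow_le_pow_right hp.out.pos
        ((hp.out.pow_dvd_iff_le_factorization Nat.card_pos.ne').1 (hk ▸ card_dvd_of_le hQK))
    exact (eq_of_le_of_card_ge hRQ h1).ge
  have hRS : R = (S : Subgroup X) := CfsgLib.Coprime.SquareFixed.eq_of_normalizer_le S.2 hS
    (hmax _ (S.2.to_le inf_le_left) (le_inf hS le_normalizer) (inf_le_right.trans hN))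
  refine ⟨le_top, ?_⟩
  rw [hRS, S.card_eq_multiplicity, Nat.card_congr (Subgroup.topEquiv (G := X)).toEquiv]

namespace MaxOdd

variable {M : Subgroup X} (h : MaxOdd M)
include h

theorem not_invol {v : X} (hv : v ∈ M) : orderOf v ≠ 2 := fun ho =>
  Nat.not_even_iff_odd.2 h.odd (CfsgLib.Invol.even_card_of_invol_mem hv ho)

theorem ne_bot : M ≠ ⊥ := by
  intro hM
  obtain ⟨t, s, ht, hs, hne, -⟩ := h.pair
  obtain ⟨a, ha, hts⟩ := h.trans t s ht hs
  rw [hM, mem_bot] at ha
  subst ha
  exact hne (by simpa using hts)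

theorem exists_invol : ∃ t : X, orderOf t = 2 := let ⟨t, _, ht, _⟩ := h.pair; ⟨t, ht⟩

theorem solvable : Group.IsSolvable M := isSolvable_of_odd_card h.odd

theorem odd_of_le {K : Subgroup X} (hK : K ≤ M) : Odd (Nat.card K) := h.odd.of_dvd_nat (card_dvd_of_le hK)

/-- `M` is the normalizer of each of its non-trivial normal subgroups. -/
theorem normalizer_eq {W : Subgroup X} (hW : W ≠ ⊥) (hWM : W ≤ M)
    (hn : M ≤ normalizer (W : Set X)) : normalizer (W : Set X) = M := by
  refine h.max _ hn (odd_card_of_no_invol fun v hv hvo => hW ?_)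
  set N : Subgroup X := closure {u : X | orderOf u = 2} with hNdef
  haveI hNn : N.Normal := normalizer_eq_top_iff.1 (eq_top_iff.2 fun g _ => by
    have key : ∀ g : X, ∀ x ∈ N, g * x * g⁻¹ ∈ N := fun g x hx => by
      have hle : N ≤ N.comap (MulAut.conj g).toMonoidHom := (closure_le _).2 fun u hu =>
        subset_closure (CfsgLib.Invol.invol_conj hu g)
      exact hle hx
    exact mem_normalizer_iff.2 fun x => ⟨key g x, fun hx => by
      simpa [mul_assoc] using key g⁻¹ _ hx⟩)
  have hNW : N ≤ normalizer (W : Set X) := by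
    rw [hNdef, closure_le]
    intro u hu
    obtain ⟨a, ha, rfl⟩ := h.trans v u hvo hu
    exact mul_mem (mul_mem (hn ha) hv) (inv_mem (hn ha))
  have hWN : W ≤ normalizer (N : Set X) := by rw [normalizer_eq_top]; exact le_top
  have hD : W ⊓ N = ⊥ := by
    haveI : ((W ⊓ N).subgroupOf N).Normal := normal_subgroupOf_of_le_normalizer
      (CfsgLib.Coprime.inf_le_normalizer hNW le_normalizer)
    have h1 : (W ⊓ N).subgroupOf N ≤ Cfsg.pPrimeCore 2 N :=
      CfsgLib.Coprime.le_pPrimeCore_of_not_dvd Nat.prime_two (by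
        rw [Nat.card_congr (subgroupOfEquivOfLe inf_le_right).toEquiv]
        exact (h.odd_of_le (inf_le_left.trans hWM)).not_two_dvd_nat)
    have h2 := map_mono (f := N.subtype) h1
    rw [map_subgroupOf_eq_of_le inf_le_right, CfsgLib.Coprime.pPrimeCore_map_subtype_eq Nat.prime_two,
      h.oddCore, bot_inf_eq] at h2
    exact le_bot_iff.1 h2
  have hWC : W ≤ centralizer (N : Set X) :=
    CfsgLib.CFun.le_centralizer_of_inf_eq_bot hWN hNW hD
  haveI hCn : (centralizer (N : Set X)).Normal := inferInstance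
  have hodd : Odd (Nat.card (centralizer (N : Set X))) := odd_card_of_no_invol fun u hu huo => by
    have huN : u ∈ N := subset_closure huo
    let E : Subgroup X :=
      { carrier := {x | x ∈ N ⊓ centralizer (N : Set X) ∧ x ^ 2 = 1}
        one_mem' := ⟨one_mem _, one_pow _⟩
        mul_mem' := fun {a b} ha hb => ⟨mul_mem ha.1 hb.1, by
          have hc : Commute a b := mem_centralizer_iff.1 hb.1.2 a ha.1.1
          rw [hc.mul_pow, ha.2, hb.2, one_mul]⟩
        inv_mem' := fun {a} ha => ⟨inv_mem ha.1, by rw [inv_pow, ha.2, inv_one]⟩ }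
    have hEn : E.Normal := ⟨fun x hx g => ⟨(inferInstance : (N ⊓ centralizer (N : Set X)).Normal).conj_mem
      x hx.1 g, by rw [conj_pow, hx.2, mul_one, mul_inv_cancel]⟩⟩
    have hE2 : IsPGroup 2 E := fun x => ⟨1, Subtype.ext (by
      simpa using x.2.2)⟩
    have hu1 : u ∈ Cfsg.pCore 2 X := (le_sSup (α := Subgroup X) (s := {K | K.Normal ∧ IsPGroup 2 K})
      ⟨hEn, hE2⟩) (show u ∈ E from ⟨⟨huN, hu⟩, by rw [← huo, pow_orderOf_eq_one]⟩)
    rw [h.twoCore, mem_bot] at hu1
    exact CfsgLib.Invol.invol_ne_one huo hu1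
  have h3 : centralizer (N : Set X) ≤ Cfsg.pPrimeCore 2 X :=
    CfsgLib.Coprime.le_pPrimeCore_of_not_dvd Nat.prime_two hodd.not_two_dvd_nat
  rw [h.oddCore] at h3
  exact le_bot_iff.1 (hWC.trans h3)

theorem centralizer_le {W : Subgroup X} (hW : W ≠ ⊥) (hWM : W ≤ M)
    (hn : M ≤ normalizer (W : Set X)) : centralizer (W : Set X) ≤ M :=
  (centralizer_le_normalizer _).trans (h.normalizer_eq hW hWM hn).le

/-- The commuting graph of the involutions is connected. -/
theorem connected {t s : X} (ht : orderOf t = 2) (hs : orderOf s = 2) :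
    Relation.ReflTransGen (fun a b => orderOf a = 2 ∧ orderOf b = 2 ∧ Commute a b) t s := by
  set r : X → X → Prop := fun a b => orderOf a = 2 ∧ orderOf b = 2 ∧ Commute a b with hr
  have hsymm : ∀ {a b}, Relation.ReflTransGen r a b → Relation.ReflTransGen r b a := fun {a b} hab => by
    induction hab with
    | refl => exact Relation.ReflTransGen.refl
    | tail _ hbc ih => exact Relation.ReflTransGen.head ⟨hbc.2.1, hbc.1, hbc.2.2.symm⟩ ih
  have hconj : ∀ (g : X) {a b}, Relation.ReflTransGen r a b →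
      Relation.ReflTransGen r (g * a * g⁻¹) (g * b * g⁻¹) := fun g {a b} hab => by
    refine Relation.ReflTransGen.lift (fun x => g * x * g⁻¹) (fun x y hxy => ?_) _ _ hab
    exact ⟨CfsgLib.Invol.invol_conj hxy.1 g, CfsgLib.Invol.invol_conj hxy.2.1 g, by
      simpa using hxy.2.2.map (MulAut.conj g)⟩
  let Y : Subgroup X :=
    { carrier := {g | Relation.ReflTransGen r t (g * t * g⁻¹)}
      one_mem' := by
        show Relation.ReflTransGen r t (1 * t * 1⁻¹)
        simp [Relation.ReflTransGen.refl]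
      mul_mem' := fun {a b} ha hb => by
        have h1 := ha.trans (hconj a hb)
        show Relation.ReflTransGen r t (a * b * t * (a * b)⁻¹)
        rw [show a * b * t * (a * b)⁻¹ = a * (b * t * b⁻¹) * a⁻¹ by group]
        exact h1
      inv_mem' := fun {a} ha => by
        have h1 := hconj a⁻¹ ha
        rw [show a⁻¹ * (a * t * a⁻¹) * a⁻¹⁻¹ = t by group] at h1
        exact hsymm h1 }
  have hmem : ∀ {g : X}, g ∈ Y ↔ Relation.ReflTransGen r t (g * t * g⁻¹) := Iff.rfl
  have htY : t ∈ Y := hmem.2 (by rw [mul_inv_cancel_right])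
  have key : ∀ u ∈ Y, orderOf u = 2 → Relation.ReflTransGen r t u := by
    intro u hu huo
    rcases Nat.even_or_odd (orderOf (t * u)) with he | ho
    · have hz := CfsgLib.Invol.orderOf_pow_half he
      have hct := CfsgLib.Invol.commute_pow_half (CfsgLib.Invol.invol_conj_mul ht huo) he
      have hcu := CfsgLib.Invol.commute_pow_half (CfsgLib.Invol.invol_conj_mul' ht huo) he
      exact (Relation.ReflTransGen.single ⟨ht, hz, hct.symm⟩).tail ⟨hz, huo, hcu⟩
    · obtain ⟨d, hd, hdu⟩ := CfsgLib.Invol.exists_conj_eq_of_odd ht huo ho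
      have h1 := hmem.1 (zpowers_le.2 (mul_mem htY hu) hd)
      rwa [hdu] at h1
  have hY : Y = ⊤ := by
    by_contra hne
    refine h.noSE Y ((CfsgLib.Invol.stronglyEmbedded_iff hne
      (CfsgLib.Invol.even_card_of_invol_mem htY ht)).2 fun v hv hvo g hg => ?_)
    exact hmem.2 ((key _ hg (CfsgLib.Invol.invol_conj hvo g)).trans (hsymm (hconj g (key v hv hvo))))
  exact key s (hY ▸ mem_top s) hs

/-- It is enough to find a prime whose Sylow subgroup of `M` has normalizer inside `M`. -/
theorem concl_of_sylow {r : ℕ} [hr : Fact r.Prime] {R : Subgroup X}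
    (hR : CfsgLib.Coprime.IsSylowIn r R M) (hN : normalizer (R : Set X) ≤ M) :
    ∃ r : ℕ, r.Prime ∧ r ≠ 2 ∧ ∃ R : Subgroup X, R ≤ M ∧ CfsgLib.Coprime.IsSylowIn r R ⊤ ∧
      ∀ v : X, orderOf v = 2 → v ∉ normalizer (R : Set X) := by
  refine ⟨r, hr.out, ?_, R, hR.1, isSylowIn_top_of_normalizer_le hR hN,
    fun v hv hvR => h.not_invol (hN hvR) hv⟩
  rintro rfl
  obtain ⟨t, ht⟩ := h.exists_invol
  have hR1 : R = ⊥ := card_eq_one.1 (by
    rw [hR.2, Nat.factorization_eq_zero_of_not_dvd h.odd.not_two_dvd_nat, pow_zero])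
  refine h.not_invol (hN ?_) ht
  rw [hR1, normalizer_eq_top]
  exact mem_top t

/-- The case of a prime with `O_{r'}(M) = 1`: `Z(J(R))` is normal in `M`. -/
theorem concl_of_coCore_eq_bot {r : ℕ} [hr : Fact r.Prime] (hco : coCore M r = ⊥) :
    ∃ r : ℕ, r.Prime ∧ r ≠ 2 ∧ ∃ R : Subgroup X, R ≤ M ∧ CfsgLib.Coprime.IsSylowIn r R ⊤ ∧
      ∀ v : X, orderOf v = 2 → v ∉ normalizer (R : Set X) := by
  have hK : Cfsg.pPrimeCore r M = ⊥ := (map_eq_bot_iff_of_injective _ M.subtype_injective).1 hco
  haveI := h.solvable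
  obtain ⟨S⟩ : Nonempty (Sylow r M) := inferInstance
  set R : Subgroup X := (S : Subgroup M).map M.subtype with hRdef
  have hR : CfsgLib.Coprime.IsSylowIn r R M := CfsgLib.Coprime.isSylowIn_map S
  have hS1 : (S : Subgroup M) ≠ ⊥ := fun e => h.ne_bot <| by
    have h1 : Cfsg.pCore r M = ⊥ := le_bot_iff.1 (e ▸ CfsgLib.Coprime.pCore_le_sylow S)
    have h2 := CfsgLib.Coprime.centralizer_pCore_le (G := M) hK
    rw [h1] at h2
    have h3 : (⊤ : Subgroup M) ≤ ⊥ :=
      le_trans (fun x _ => mem_centralizer_iff.2 fun y hy => by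
        obtain rfl : y = 1 := mem_bot.1 hy
        rw [one_mul, mul_one]) h2
    refine le_bot_iff.1 fun x hx => ?_
    exact mem_bot.2 (congrArg Subtype.val (mem_bot.1 (h3 (mem_top ⟨x, hx⟩))))
  have hr2 : r ≠ 2 := fun hr2 => hS1 (card_eq_one.1 (by
    rw [S.card_eq_multiplicity, Nat.factorization_eq_zero_of_not_dvd
      (hr2 ▸ h.odd.not_two_dvd_nat), pow_zero]))
  obtain ⟨hn, -⟩ := CfsgLib.CFun.zjA_factor hr2 h.odd S
  rw [hK, bot_sup_eq] at hn
  set Z : Subgroup X := Cfsg.centerThompsonAOf R with hZdef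
  have hZmap : (Cfsg.centerThompsonAOf (S : Subgroup M)).map M.subtype = Z := by
    rw [hZdef, hRdef, CfsgLib.PGroup.ZJFailure.map_centerThompsonAOf_injective _ M.subtype_injective]
  have hZM : Z ≤ M := hZmap ▸ map_subtype_le _
  have hMZ : M ≤ normalizer (Z : Set X) := fun x hx => by
    rw [← hZmap]
    exact le_normalizer_map M.subtype ⟨⟨x, hx⟩, (normalizer_eq_top (Cfsg.centerThompsonAOf (S : Subgroup M))).symm ▸ mem_top _, rfl⟩
  have hRne : R ≠ ⊥ := fun e => hS1 ((map_eq_bot_iff_of_injective _ M.subtype_injective).1 e)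
  have hZne : Z ≠ ⊥ := fun e => hRne <| by
    have hRp : IsPGroup r R := hR.isPGroup
    have h1 : R ⊓ centralizer (R : Set X) ≤ ⊥ :=
      e ▸ CfsgLib.PushUp.center_le_Jz (S := R)
    by_contra hne
    haveI : Nontrivial R := (nontrivial_iff_ne_bot R).2 hne
    haveI := hRp.center_nontrivial
    obtain ⟨⟨z, hz⟩, hz1⟩ := exists_ne (1 : center R)
    refine hz1 (Subtype.ext (Subtype.ext (mem_bot.1 (h1 ⟨z.2, mem_centralizer_iff.2 fun y hy => ?_⟩))))
    exact congrArg Subtype.val (mem_center_iff.1 hz ⟨y, hy⟩)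
  refine h.concl_of_sylow hR fun g hg => ?_
  rw [← h.normalizer_eq hZne hZM hMZ]
  refine CfsgLib.Fusion.conjBy_eq_iff.1 ?_
  rw [hZdef, CfsgLib.Fusion.conjBy, CfsgLib.Fusion.map_centerThompsonAOf (MulAut.conj g) R]
  exact congrArg _ (CfsgLib.Fusion.conjBy_eq_iff.2 hg)

end MaxOdd

end CfsgLib.Bender
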