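import Cfsg.Agent.Lib.Bender.OddTransitive.Basic
import Cfsg.Agent.Lib.CFun.OddFpfCentralize
import Cfsg.Agent.Lib.Coprime.Hyperplanes

/-!
# Maximal subgroups of odd order transitive on the involutions: signalizers of `Ω₁Z(O_q(M))`

`az M q` is `Ω₁Z(O_q(M))`. If it is not cyclic then no involution centralizes one of its hyperplanes, and it
centralizes every subgroup of prime power order `kⁱ` it normalizes, for the other primes `k` of `F(M)`.
-/

set_option autoImplicit false
set_option linter.unusedSectionVars false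
set_option linter.style.haveILetI false

open Subgroup
open scoped commutatorElement
open CfsgLib.CFun (core coCore isPGroup_core core_le le_normalizer_core)
open CfsgLib.Coprime (conj_mem_of_le_normalizer)

namespace CfsgLib.Bender

universe u

variable {X : Type u} [Group X] [Finite X]

/-- The elements of order dividing `q` in the centre of `O_q(M)`. -/
def az (M : Subgroup X) (q : ℕ) : Subgroup X where
  carrier := {x | x ∈ core M q ∧ (∀ y ∈ core M q, y * x = x * y) ∧ x ^ q = 1}
  one_mem' := ⟨one_mem _, fun y _ => by rw [mul_one, one_mul], one_pow _⟩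
  mul_mem' := fun {a b} ha hb => ⟨mul_mem ha.1 hb.1,
    fun y hy => by rw [← mul_assoc, ha.2.1 y hy, mul_assoc, hb.2.1 y hy, ← mul_assoc], by
      have hc : Commute a b := hb.2.1 a ha.1
      rw [hc.mul_pow, ha.2.2, hb.2.2, one_mul]⟩
  inv_mem' := fun {a} ha => ⟨inv_mem ha.1,
    fun y hy => (Commute.inv_right (ha.2.1 y hy : Commute y a)).eq, by rw [inv_pow, ha.2.2, inv_one]⟩

variable {M : Subgroup X} {q k : ℕ}

theorem az_le_core : az M q ≤ core M q := fun _ hx => hx.1

theorem az_le : az M q ≤ M := az_le_core.trans core_le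

theorem core_le_centralizer_az : core M q ≤ centralizer (az M q : Set X) :=
  fun y hy => mem_centralizer_iff.2 fun x hx => (hx.2.1 y hy).symm

theorem isElementaryAbelian_az : Cfsg.IsElementaryAbelian q (az M q) :=
  ⟨⟨⟨fun a b => Subtype.ext (b.2.2.1 (a : X) a.2.1)⟩⟩, fun _ hx => hx.2.2⟩

theorem az_commute {a b : X} (ha : a ∈ az M q) (hb : b ∈ az M q) : Commute a b := hb.2.1 a ha.1

theorem isPGroup_az [Fact q.Prime] : IsPGroup q (az M q) := isPGroup_core.to_le az_le_core

theorem le_normalizer_az : M ≤ normalizer (az M q : Set X) := by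
  have key : ∀ g ∈ M, ∀ x ∈ az M q, g * x * g⁻¹ ∈ az M q := fun g hg x hx => by
    refine ⟨conj_mem_of_le_normalizer le_normalizer_core hg hx.1, fun y hy => ?_,
      by rw [conj_pow, hx.2.2, mul_one, mul_inv_cancel]⟩
    have h1 := hx.2.1 _ (conj_mem_of_le_normalizer le_normalizer_core (inv_mem hg) hy)
    calc y * (g * x * g⁻¹) = g * (g⁻¹ * y * g⁻¹⁻¹ * x) * g⁻¹ := by group
      _ = g * (x * (g⁻¹ * y * g⁻¹⁻¹)) * g⁻¹ := by rw [h1]
      _ = g * x * g⁻¹ * y := by group
  exact fun g hg => mem_normalizer_iff.2 fun x => ⟨key g hg x, fun hx => by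
    simpa [mul_assoc] using key g⁻¹ (inv_mem hg) _ hx⟩

theorem az_ne_bot [hq : Fact q.Prime] (h : core M q ≠ ⊥) : az M q ≠ ⊥ := by
  haveI : Nontrivial (core M q) := (nontrivial_iff_ne_bot _).2 h
  haveI := (isPGroup_core (H := M) (s := q)).center_nontrivial
  have h1 : q ∣ Nat.card (center (core M q)) := by
    obtain ⟨n, hn, e⟩ := ((isPGroup_core (H := M) (s := q)).to_subgroup _).nontrivial_iff_card.1
      (inferInstance : Nontrivial (center (core M q)))
    rw [e]; exact dvd_pow_self q hn.ne'
  obtain ⟨z, hz⟩ := exists_prime_orderOf_dvd_card' q h1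
  intro e
  have hzm : ((z : core M q) : X) ∈ az M q := ⟨(z : core M q).2, fun y hy =>
    congrArg Subtype.val (mem_center_iff.1 z.2 ⟨y, hy⟩), by
      have h3 : z ^ q = 1 := orderOf_dvd_iff_pow_eq_one.1 hz.dvd
      simpa using congrArg (fun w : center (core M q) => ((w : core M q) : X)) h3⟩
  rw [e, mem_bot] at hzm
  have hz1 : z = 1 := Subtype.ext (Subtype.ext hzm)
  rw [hz1, orderOf_one] at hz
  exact hq.out.one_lt.ne hz

theorem az_inf_eq_bot [Fact q.Prime] [Fact k.Prime] (hne : q ≠ k) {U : Subgroup X} (hU : IsPGroup k U) :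
    az M q ⊓ U = ⊥ :=
  CfsgLib.CFun.inf_eq_bot_of_isPGroup isPGroup_az (CfsgLib.CFun.not_dvd_of_isPGroup hne.symm hU)

theorem core_le_centralizer_az' [Fact q.Prime] [Fact k.Prime] (hne : k ≠ q) :
    core M k ≤ centralizer (az M q : Set X) :=
  CfsgLib.CFun.le_centralizer_of_inf_eq_bot (core_le.trans le_normalizer_az)
    (az_le.trans le_normalizer_core) (by rw [inf_comm]; exact az_inf_eq_bot hne.symm isPGroup_core)

namespace MaxOdd

variable (h : MaxOdd M)
include h

theorem centralizer_az_le [Fact q.Prime] (hq : core M q ≠ ⊥) : centralizer (az M q : Set X) ≤ M :=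
  h.centralizer_le (az_ne_bot hq) az_le le_normalizer_az

/-- Thompson's `A × B` lemma for two of the groups `az`. -/
theorem az_le_centralizer [Fact q.Prime] [Fact k.Prime] (hne : q ≠ k) (hk : core M k ≠ ⊥) {U : Subgroup X}
    (hU : IsPGroup k U) (hk' : az M k ≤ normalizer (U : Set X)) (hq' : az M q ≤ normalizer (U : Set X)) :
    az M q ≤ centralizer (U : Set X) := by
  have hcomm : az M k ≤ centralizer (az M q : Set X) :=
    az_le_core.trans (core_le_centralizer_az' hne.symm)
  refine CfsgLib.Coprime.pq_lemma isPGroup_az ((Nat.Prime.coprime_iff_not_dvd Fact.out).2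
    (CfsgLib.CFun.not_dvd_of_isPGroup hne isPGroup_az)).symm hU hcomm hk' hq' ?_
  set C := U ⊓ centralizer (az M k : Set X)
  have hCM : C ≤ M := inf_le_right.trans (h.centralizer_az_le hk)
  have hqC : az M q ≤ normalizer (C : Set X) :=
    CfsgLib.Coprime.inf_le_normalizer hq' ((le_centralizer_iff.1 hcomm).trans
      ((CfsgLib.Coprime.centralizer_le_normalizer_self _).trans
        (CfsgLib.Coprime.normalizer_le_normalizer_centralizer _)))
  exact CfsgLib.CFun.le_centralizer_of_inf_eq_bot (hCM.trans le_normalizer_az) hqC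
    (by rw [inf_comm]; exact az_inf_eq_bot hne (hU.to_le inf_le_left))

/-- No involution centralizes a hyperplane of a noncyclic `az`. -/
theorem hyperplane_no_invol [hq : Fact q.Prime] (hcore : core M q ≠ ⊥) (h2 : q ^ 2 ≤ Nat.card (az M q))
    {E : Subgroup X} (hE : E ≤ az M q) (hidx : E.relIndex (az M q) = q) {t : X} (ht : orderOf t = 2) :
    t ∉ centralizer (E : Set X) := by
  intro htE
  set A := az M q with hA
  set K : X → Subgroup X := fun v => A ⊓ centralizer {v} with hK
  have hKA : ∀ v, K v ≤ A := fun v => inf_le_left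
  have hnot : ∀ v, orderOf v = 2 → ¬ A ≤ centralizer {v} := fun v hv hle =>
    h.not_invol (h.centralizer_az_le hcore (mem_centralizer_iff.2 fun a ha =>
      mem_centralizer_singleton_iff.1 (hle ha))) hv
  have hcard : Nat.card E * q = Nat.card A := by
    rw [← hidx, ← relIndex_bot_left (H := E), relIndex_mul_relIndex ⊥ E A bot_le hE, relIndex_bot_left]
  have hEK : E ≤ K t := le_inf hE fun e he => mem_centralizer_singleton_iff.2
    (mem_centralizer_iff.1 htE e he)
  have hmax : ∀ B : Subgroup X, E ≤ B → B ≤ A → B ≠ A → B = E := fun B hEB hBA hne => by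
    by_contra hne'
    have h1 := relIndex_mul_relIndex E B A hEB hBA
    rw [hidx] at h1
    rcases (Nat.dvd_prime hq.out).1 ⟨B.relIndex A, h1.symm⟩ with e | e
    · exact hne' (le_antisymm (relIndex_eq_one.1 e) hEB)
    · rw [e] at h1
      exact hne (le_antisymm hBA (relIndex_eq_one.1
        ((Nat.mul_eq_left hq.out.ne_zero).1 h1)))
  have hKt : K t = E := hmax _ hEK (hKA t) fun e => hnot t ht (e.symm.le.trans inf_le_right)
  have hconj : ∀ m ∈ M, ∀ v, K (m * v * m⁻¹) = CfsgLib.Fusion.conjBy m (K v) := fun m hm v => by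
    ext x
    rw [CfsgLib.Fusion.mem_conjBy]
    constructor
    · rintro ⟨hxA, hxC⟩
      refine ⟨?_, mem_centralizer_singleton_iff.2 ?_⟩
      · simpa using conj_mem_of_le_normalizer le_normalizer_az (inv_mem hm) hxA
      · have e := mem_centralizer_singleton_iff.1 hxC
        calc m⁻¹ * x * m * v = m⁻¹ * (x * (m * v * m⁻¹)) * m := by group
          _ = m⁻¹ * (m * v * m⁻¹ * x) * m := by rw [e]
          _ = v * (m⁻¹ * x * m) := by group
    · rintro ⟨hxA, hxC⟩
      refine ⟨?_, mem_centralizer_singleton_iff.2 ?_⟩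
      · simpa [mul_assoc] using conj_mem_of_le_normalizer le_normalizer_az hm hxA
      · have e := mem_centralizer_singleton_iff.1 hxC
        calc x * (m * v * m⁻¹) = m * (m⁻¹ * x * m * v) * m⁻¹ := by group
          _ = m * (v * (m⁻¹ * x * m)) * m⁻¹ := by rw [e]
          _ = m * v * m⁻¹ * x := by group
  have hKcard : ∀ v, orderOf v = 2 → Nat.card (K v) * q = Nat.card A := fun v hv => by
    obtain ⟨m, hm, rfl⟩ := h.trans t v ht hv
    rw [hconj m hm, CfsgLib.Fusion.card_conjBy, hKt, hcard]
  have hKsub : ∀ {v w}, orderOf v = 2 → orderOf w = 2 → K v ≤ K w → K v = K w := fun {v w} hv hw hle =>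
    eq_of_le_of_card_ge hle (Nat.le_of_mul_le_mul_right (le_of_eq ((hKcard w hw).trans (hKcard v hv).symm))
      hq.out.pos)
  have hadj : ∀ u v, orderOf u = 2 → orderOf v = 2 → Commute u v → K u = K v := by
    intro u v hu hv huv
    by_contra hne
    have huv1 : u ≠ v := fun e => hne (e ▸ rfl)
    have hw : orderOf (u * v) = 2 := CfsgLib.Invol.invol_iff.2 ⟨by
      rw [mul_assoc, ← mul_assoc v u v, ← huv.eq, mul_assoc, CfsgLib.Invol.invol_mul_self hv, mul_one,
        CfsgLib.Invol.invol_mul_self hu], fun e => huv1 (by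
      rw [← CfsgLib.Invol.invol_inv hv]; exact eq_inv_of_mul_eq_one_left e)⟩
    have hKw : K (u * v) ≠ K u := fun e => hne (hKsub hu hv fun x hx => ⟨hx.1, by
      have h1 := mem_centralizer_singleton_iff.1 hx.2
      have h2 := mem_centralizer_singleton_iff.1 (e.ge hx).2
      refine mem_centralizer_singleton_iff.2 ?_
      calc x * v = u⁻¹ * (u * x) * v := by group
        _ = u⁻¹ * (x * (u * v)) := by rw [← h1]; group
        _ = u⁻¹ * (u * v * x) := by rw [h2]
        _ = v * x := by group⟩)
    obtain ⟨a, haw, hau⟩ := SetLike.not_le_iff_exists.1 fun hle => hKw (hKsub hw hu hle)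
    have hsup : K u ⊔ K v = A := by
      by_contra hne'
      have hle : K u ⊔ K v ≤ A := sup_le (hKA u) (hKA v)
      have hlt : K u < K u ⊔ K v := lt_of_le_of_ne le_sup_left fun e =>
        hne (hKsub hv hu (le_sup_right.trans e.ge)).symm
      have h1 := relIndex_mul_relIndex (K u) _ A le_sup_left hle
      have h2 : (K u).relIndex A = q := by
        have h3 := relIndex_mul_relIndex ⊥ (K u) A bot_le (hKA u)
        rw [relIndex_bot_left, relIndex_bot_left, ← hKcard u hu] at h3
        exact Nat.eq_of_mul_eq_mul_left Nat.card_pos h3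
      rw [h2] at h1
      rcases (Nat.dvd_prime hq.out).1 ⟨_, h1.symm⟩ with e | e
      · exact hlt.not_ge (relIndex_eq_one.1 e)
      · rw [e] at h1
        exact hne' (le_antisymm hle (relIndex_eq_one.1 ((Nat.mul_eq_left hq.out.ne_zero).1 h1)))
    have haA : a ∈ A := haw.1
    obtain ⟨c₁, hc₁, c₂, hc₂, rfl⟩ := CfsgLib.Coprime.mem_sup_exists
      (N := K u) (H := K v) (fun x hx => centralizer_le_normalizer _ (mem_centralizer_iff.2 fun y hy =>
        (az_commute (hKA u hy) (hKA v hx)).eq)) (hsup.ge haA)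
    have e12 : Commute c₁ c₂ := az_commute hc₁.1 hc₂.1
    have eu : Commute c₁ u := mem_centralizer_singleton_iff.1 hc₁.2
    have ev : Commute c₂ v := mem_centralizer_singleton_iff.1 hc₂.2
    have ew : c₁ * c₂ * (u * v) = u * v * (c₁ * c₂) := mem_centralizer_singleton_iff.1 haw.2
    set u' := c₂ * u * c₂⁻¹ with hu'
    set v' := c₁ * v * c₁⁻¹ with hv'
    have hu'o : orderOf u' = 2 := CfsgLib.Invol.invol_conj hu c₂
    have hv'o : orderOf v' = 2 := CfsgLib.Invol.invol_conj hv c₁
    have e1 : u' * v' = u * v := by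
      have h1 : c₁ * c₂ * u * (c₁ * c₂)⁻¹ = u' := by
        rw [e12.eq, hu']
        calc c₂ * c₁ * u * (c₂ * c₁)⁻¹ = c₂ * (c₁ * u * c₁⁻¹) * c₂⁻¹ := by group
          _ = c₂ * u * c₂⁻¹ := by rw [eu.eq, mul_inv_cancel_right]
      have h2 : c₁ * c₂ * v * (c₁ * c₂)⁻¹ = v' := by
        rw [hv']
        calc c₁ * c₂ * v * (c₁ * c₂)⁻¹ = c₁ * (c₂ * v * c₂⁻¹) * c₁⁻¹ := by group
          _ = c₁ * v * c₁⁻¹ := by rw [ev.eq, mul_inv_cancel_right]
      calc u' * v' = c₁ * c₂ * u * (c₁ * c₂)⁻¹ * (c₁ * c₂ * v * (c₁ * c₂)⁻¹) := by rw [h1, h2]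
        _ = c₁ * c₂ * (u * v) * (c₁ * c₂)⁻¹ := by group
        _ = u * v * (c₁ * c₂) * (c₁ * c₂)⁻¹ := by rw [ew]
        _ = u * v := by group
    have e2 : u * u' = v * v' := by
      have h1 : u' = u * v * v'⁻¹ := by rw [← e1, mul_inv_cancel_right]
      rw [h1, CfsgLib.Invol.invol_inv hv'o,
        show u * (u * v * v') = (u * u) * (v * v') by group, CfsgLib.Invol.invol_mul_self hu, one_mul]
    set c := u * u' with hc
    have huv' : Commute u v' := (eu.symm.mul_right huv).mul_right eu.symm.inv_right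
    have huc : Commute u c := e2 ▸ huv.mul_right huv'
    have hc2 : c * c = 1 := by
      have h1 : u * c * u⁻¹ = c⁻¹ := by
        rw [hc, mul_inv_rev, CfsgLib.Invol.invol_inv hu'o, CfsgLib.Invol.invol_inv hu, ← mul_assoc,
          CfsgLib.Invol.invol_mul_self hu, one_mul]
      rw [huc.eq, mul_inv_cancel_right] at h1
      exact mul_eq_one_iff_eq_inv.2 h1
    have hc1 : c ≠ 1 := fun e => by
      refine hau ⟨haA, mem_centralizer_singleton_iff.2 ?_⟩
      have e' : c₂ * u * c₂⁻¹ = u := by
        rw [← hu', ← CfsgLib.Invol.invol_inv hu]; exact eq_inv_of_mul_eq_one_right e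
      have e3 : Commute c₂ u := mul_inv_eq_iff_eq_mul.1 e'
      exact (eu.mul_left e3).eq
    have hcA : A ≤ centralizer {c} := by
      rw [← hsup]
      refine sup_le (fun x hx => mem_centralizer_singleton_iff.2 ?_) fun x hx =>
        mem_centralizer_singleton_iff.2 ?_
      · have e1 : Commute x u := mem_centralizer_singleton_iff.1 hx.2
        have e3 : Commute x c₂ := az_commute hx.1 hc₂.1
        exact (e1.mul_right ((e3.mul_right e1).mul_right e3.inv_right)).eq
      · have e1 : Commute x v := mem_centralizer_singleton_iff.1 hx.2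
        have e3 : Commute x c₁ := az_commute hx.1 hc₁.1
        exact (e2 ▸ e1.mul_right ((e3.mul_right e1).mul_right e3.inv_right)).eq
    exact hnot c (CfsgLib.Invol.invol_iff.2 ⟨hc2, hc1⟩) hcA
  have hconst : ∀ v, orderOf v = 2 → K v = K t := fun v hv => by
    have := h.connected ht hv
    clear hv
    induction this with
    | refl => rfl
    | tail _ hbc ih => rw [← ih]; exact (hadj _ _ hbc.1 hbc.2.1 hbc.2.2).symm
  have hEne : K t ≠ ⊥ := fun e => by
    have h1 := hKcard t ht
    rw [e, Subgroup.card_bot, one_mul] at h1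
    rw [← h1] at h2
    nlinarith [hq.out.two_le]
  have hn : M ≤ normalizer (K t : Set X) := fun m hm => by
    rw [← CfsgLib.Fusion.conjBy_eq_iff, ← hconj m hm t]
    exact hconst _ (CfsgLib.Invol.invol_conj ht m)
  refine h.not_invol (h.centralizer_le hEne (inf_le_left.trans az_le) hn
    (mem_centralizer_iff.2 fun x hx => mem_centralizer_singleton_iff.1 hx.2)) ht

/-- A noncyclic `az` centralizes the `k`-subgroups it normalizes in the centralizer of a hyperplane. -/
theorem az_le_centralizer_of_hyperplane [hq : Fact q.Prime] [hk : Fact k.Prime] (hcore : core M q ≠ ⊥)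
    (hkcore : core M k ≠ ⊥) (hne : k ≠ q) (h2 : q ^ 2 ≤ Nat.card (az M q)) {E S : Subgroup X}
    (hE : E ≤ az M q) (hidx : E.relIndex (az M q) = q) (hS : IsPGroup k S)
    (hSE : S ≤ centralizer (E : Set X)) (hAS : az M q ≤ normalizer (S : Set X)) :
    S ≤ centralizer (az M q : Set X) := by
  set A := az M q with hA
  set L := centralizer (E : Set X) with hL
  have hLodd : Odd (Nat.card L) :=
    odd_card_of_no_invol fun v hv hvo => h.hyperplane_no_invol hcore h2 hE hidx hvo hv
  haveI : Group.IsSolvable L := isSolvable_of_odd_card hLodd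
  have hAL : A ≤ L := fun a ha => mem_centralizer_iff.2 fun e he => (az_commute (hE he) ha).eq
  have hML : ∀ i : ℕ, i.Prime → core M i ≤ L := fun i hi => by
    haveI : Fact i.Prime := ⟨hi⟩
    refine le_trans ?_ (Subgroup.centralizer_le hE)
    rcases eq_or_ne i q with rfl | hi'
    · exact core_le_centralizer_az
    · exact core_le_centralizer_az' hi'
  have hkL : az M k ≤ L := az_le_core.trans (hML k hk.out)
  obtain ⟨a, haA, haE⟩ := SetLike.not_le_iff_exists.1 (fun hle : A ≤ E => hq.out.ne_one
    (hidx.symm.trans (relIndex_eq_one.2 hle)))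
  have haq : a ^ q = 1 := haA.2.2
  have hZA : zpowers a ≤ A := zpowers_le.2 haA
  have hZS : zpowers a ≤ normalizer (S : Set X) := hZA.trans hAS
  have hcop : (Nat.card (zpowers a)).Coprime (Nat.card S) :=
    by
      obtain ⟨i, hi⟩ := IsPGroup.iff_card.1 (isPGroup_az.to_le hZA : IsPGroup q (zpowers a))
      obtain ⟨j, hj⟩ := IsPGroup.iff_card.1 hS
      rw [hi, hj]
      exact ((Nat.coprime_primes hq.out hk.out).2 hne.symm).pow _ _
  have hXS : ⁅S, zpowers a⁆ ≤ S := le_normalizer_iff_commutator_le_left.1 hZS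
  have key : ∀ j : ℕ, j.Prime → ⁅S, zpowers a⁆ ≤ centralizer (core L j : Set X) := by
    intro j hj
    haveI : Fact j.Prime := ⟨hj⟩
    set P := core L j with hP
    have hPL : P ≤ L := core_le
    have hPp : IsPGroup j P := isPGroup_core
    have hLP : L ≤ normalizer (P : Set X) := le_normalizer_core
    have hSP : S ≤ normalizer (P : Set X) := hSE.trans hLP
    by_cases hjq : j = q
    · subst j
      by_cases hAP : A ≤ P
      · have h1 : ⁅S, A⁆ ≤ S ⊓ P := le_inf (le_normalizer_iff_commutator_le_left.1 hAS)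
          ((commutator_mono le_rfl hAP).trans (le_normalizer_iff_commutator_le_right.1 hSP))
        rw [inf_comm, CfsgLib.CFun.inf_eq_bot_of_isPGroup hPp
          (CfsgLib.CFun.not_dvd_of_isPGroup hne hS)] at h1
        exact ((commutator_mono le_rfl hZA).trans h1).trans bot_le
      have hPM : P ≤ M := by
        refine (le_centralizer_iff.1 ?_).trans (h.centralizer_az_le hkcore)
        exact h.az_le_centralizer hne hcore hPp (hAL.trans hLP) (hkL.trans hLP)
      have hEP : E ≤ P := by
        have hEL : E ≤ L := hE.trans hAL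
        haveI : (E.subgroupOf L).Normal := normal_subgroupOf_of_le_normalizer
          (CfsgLib.Coprime.centralizer_le_normalizer_self E)
        have h1 : E.subgroupOf L ≤ Cfsg.pCore q L := le_sSup (α := Subgroup L)
          (s := {N | N.Normal ∧ IsPGroup q N}) ⟨inferInstance,
            (isPGroup_az.to_le hE).of_equiv (subgroupOfEquivOfLe hEL).symm⟩
        exact fun e he => ⟨⟨e, hEL he⟩, h1 he, rfl⟩
      have hPA : P ⊓ A = E := by
        by_contra hne'
        have h1 := relIndex_mul_relIndex E (P ⊓ A) A (le_inf hEP hE) inf_le_right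
        rw [hidx] at h1
        rcases (Nat.dvd_prime hq.out).1 ⟨_, h1.symm⟩ with e | e
        · exact hne' (le_antisymm (relIndex_eq_one.1 e) (le_inf hEP hE))
        · rw [e] at h1
          exact hAP ((relIndex_eq_one.1 ((Nat.mul_eq_left hq.out.ne_zero).1 h1)).trans inf_le_left)
      have hd : ∀ b ∈ zpowers a, ∀ x ∈ P, ∃ e ∈ E, b * x * b⁻¹ = e * x := fun b hb x hx => by
        refine ⟨b * x * b⁻¹ * x⁻¹, hPA.le ⟨P.mul_mem (conj_mem_of_le_normalizer (hAL.trans hLP) (hZA hb) hx)
          (P.inv_mem hx), ?_⟩, by group⟩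
        rw [show b * x * b⁻¹ * x⁻¹ = b * (x * b⁻¹ * x⁻¹) by group]
        exact mul_mem (hZA hb) (conj_mem_of_le_normalizer le_normalizer_az (hPM hx) (inv_mem (hZA hb)))
      have hcen : ∀ e ∈ E, ∀ l ∈ L, l * e = e * l := fun e he l hl =>
        (mem_centralizer_iff.1 hl e he).symm
      refine (commutator_le).2 fun s hs b hb => mem_centralizer_iff.2 fun x hx => ?_
      set c := ⁅s, b⁆ with hcdef
      have hbL : b ∈ L := hAL (hZA hb)
      have hsL : s ∈ L := hSE hs
      obtain ⟨e₁, he₁, h₁⟩ := hd b⁻¹ (inv_mem hb) x hx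
      have hx' : s⁻¹ * x * s ∈ P := by
        simpa using conj_mem_of_le_normalizer hSP (inv_mem hs) hx
      obtain ⟨e₂, he₂, h₂⟩ := hd b hb _ hx'
      have hcx : c * x * c⁻¹ = e₁ * e₂ * x := by
        have c1 : ∀ e ∈ E, ∀ l ∈ L, l * e * l⁻¹ = e := fun e he l hl => by
          rw [hcen e he l hl, mul_inv_cancel_right]
        calc c * x * c⁻¹ = s * (b * (s⁻¹ * (b⁻¹ * x * b⁻¹⁻¹) * s) * b⁻¹) * s⁻¹ := by
              rw [hcdef, commutatorElement_def]; group
          _ = s * (b * (s⁻¹ * (e₁ * x) * s) * b⁻¹) * s⁻¹ := by rw [h₁]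
          _ = s * (b * ((s⁻¹ * e₁ * s⁻¹⁻¹) * (s⁻¹ * x * s)) * b⁻¹) * s⁻¹ := by group
          _ = s * (b * (e₁ * (s⁻¹ * x * s)) * b⁻¹) * s⁻¹ := by rw [c1 e₁ he₁ s⁻¹ (inv_mem hsL)]
          _ = s * ((b * e₁ * b⁻¹) * (b * (s⁻¹ * x * s) * b⁻¹)) * s⁻¹ := by group
          _ = s * (e₁ * (e₂ * (s⁻¹ * x * s))) * s⁻¹ := by rw [c1 e₁ he₁ b hbL, h₂]
          _ = (s * (e₁ * e₂) * s⁻¹) * x := by group
          _ = e₁ * e₂ * x := by rw [c1 _ (mul_mem he₁ he₂) s hsL]
      have hcL : c ∈ L := hSE (hXS (commutator_mem_commutator hs hb))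
      have he0 := CfsgLib.Coprime.eq_one_of_conj_eq_mul hcx
        (by rw [hcen _ (mul_mem he₁ he₂) c hcL, mul_inv_cancel_right])
        (by
          obtain ⟨i, hi⟩ := IsPGroup.iff_orderOf.1 hS ⟨c, hXS (commutator_mem_commutator hs hb)⟩
          rw [orderOf_mk] at hi
          rw [hi]
          exact (((Nat.coprime_primes hk.out hq.out).2 hne).pow_left i).coprime_dvd_right
            (orderOf_dvd_of_pow_eq_one (hE (mul_mem he₁ he₂)).2.2))
      rw [he0, one_mul, mul_inv_eq_iff_eq_mul] at hcx
      exact hcx.symm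
    by_cases hjπ : core M j = ⊥
    · refine CfsgLib.CFun.FpfComm.commutator_le_centralizer hPp hq.out (Ne.symm hjq) haq (hLP (hAL haA))
        (hAS haA) hSP (hLodd.of_dvd_nat (card_dvd_of_le hSE))
        (CfsgLib.CFun.not_dvd_of_isPGroup hne hS)
        (CfsgLib.CFun.not_dvd_of_isPGroup (fun e => hkcore (by rw [e]; exact hjπ)) hS) fun v hv hva => ?_
      set V₀ := P ⊓ centralizer (A : Set X) with hV₀
      have hgen : A ≤ E ⊔ zpowers a := by
        have h1 := relIndex_mul_relIndex E (E ⊔ zpowers a) A le_sup_left (sup_le hE hZA)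
        rw [hidx] at h1
        rcases (Nat.dvd_prime hq.out).1 ⟨_, h1.symm⟩ with e | e
        · exact absurd ((relIndex_eq_one.1 e) (mem_sup_right (mem_zpowers a))) haE
        · rw [e] at h1
          exact relIndex_eq_one.1 ((Nat.mul_eq_left hq.out.ne_zero).1 h1)
      have hvC : v ∈ centralizer (A : Set X) := by
        refine Subgroup.centralizer_le hgen ?_
        rw [mem_centralizer_iff]
        intro y hy
        have h1 : E ⊔ zpowers a ≤ centralizer {v} := sup_le
          (fun e he => mem_centralizer_singleton_iff.2 (mem_centralizer_iff.1 (hPL hv) e he))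
          (zpowers_le.2 (mem_centralizer_singleton_iff.2 hva))
        exact mem_centralizer_singleton_iff.1 (h1 hy)
      have hV₀M : V₀ ≤ M := inf_le_right.trans (h.centralizer_az_le hcore)
      haveI := h.solvable
      have h1 : V₀ ≤ Cfsg.fittingOf M := by
        refine (le_inf hV₀M ?_).trans CfsgLib.CFun.centralizer_fittingOf_le
        rw [le_centralizer_iff]
        refine CfsgLib.CFun.fittingOf_le_of_cores fun i hi => ?_
        haveI : Fact i.Prime := ⟨hi⟩
        rcases eq_or_ne i j with rfl | hij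
        · rw [hjπ]; exact bot_le
        · exact CfsgLib.CFun.le_centralizer_of_inf_eq_bot
            (CfsgLib.Coprime.inf_le_normalizer ((hML i hi).trans hLP)
              ((core_le.trans le_normalizer_az).trans
                (CfsgLib.Coprime.normalizer_le_normalizer_centralizer _)))
            (hV₀M.trans le_normalizer_core)
            (CfsgLib.CFun.inf_eq_bot_of_isPGroup isPGroup_core
              (CfsgLib.CFun.not_dvd_of_isPGroup (Ne.symm hij) (hPp.to_le inf_le_left)))
      have h3 := CfsgLib.CFun.le_core_of_le_fittingOf h1 (hPp.to_le inf_le_left : IsPGroup j V₀) ⟨hv, hvC⟩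
      rw [hjπ, mem_bot] at h3
      exact h3
    · have h1 : A ≤ centralizer (P : Set X) :=
        h.az_le_centralizer (Ne.symm hjq) hjπ hPp ((az_le_core.trans (hML j hj)).trans hLP) (hAL.trans hLP)
      refine commutator_le.2 fun s hs b hb => mem_centralizer_iff.2 fun x hx => ?_
      have hc : ∀ y ∈ P, b⁻¹ * y * b = y := fun y hy => by
        rw [mul_assoc, mem_centralizer_iff.1 (h1 (hZA hb)) y hy, ← mul_assoc, inv_mul_cancel, one_mul]
      have hc' : ∀ y ∈ P, b * y * b⁻¹ = y := fun y hy => by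
        rw [← mem_centralizer_iff.1 (h1 (hZA hb)) y hy, mul_inv_cancel_right]
      have hx' : s⁻¹ * x * s ∈ P := by simpa using conj_mem_of_le_normalizer hSP (inv_mem hs) hx
      have e : ⁅s, b⁆ * x * ⁅s, b⁆⁻¹ = x := by
        calc ⁅s, b⁆ * x * ⁅s, b⁆⁻¹ = s * (b * (s⁻¹ * (b⁻¹ * x * b) * s) * b⁻¹) * s⁻¹ := by
              rw [commutatorElement_def]; group
          _ = s * (b * (s⁻¹ * x * s) * b⁻¹) * s⁻¹ := by rw [hc x hx]
          _ = s * (s⁻¹ * x * s) * s⁻¹ := by rw [hc' _ hx']
          _ = x := by group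
      exact (mul_inv_eq_iff_eq_mul.1 e).symm
  have hXk : ⁅S, zpowers a⁆ ≤ core L k := by
    have h1 : ⁅S, zpowers a⁆ ≤ Cfsg.fittingOf L := by
      refine (le_inf (hXS.trans hSE) ?_).trans CfsgLib.CFun.centralizer_fittingOf_le
      rw [le_centralizer_iff]
      exact CfsgLib.CFun.fittingOf_le_of_cores fun j hj => le_centralizer_iff.1 (key j hj)
    exact CfsgLib.CFun.le_core_of_le_fittingOf h1 (hS.to_le hXS)
  have hAk : A ≤ centralizer (core L k : Set X) :=
    h.az_le_centralizer hne.symm hkcore isPGroup_core (hkL.trans le_normalizer_core)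
      (hAL.trans le_normalizer_core)
  have hfix : zpowers a ≤ centralizer (S : Set X) :=
    CfsgLib.Coprime.le_centralizer_of_le_centralizer_commutator hZS hcop
      (Or.inr (haveI := hS.isNilpotent; CfsgLib.Coprime.isSolvable_of_isNilpotent inferInstance))
      ((hZA.trans hAk).trans (Subgroup.centralizer_le hXk))
  intro s hs
  rw [mem_centralizer_iff]
  have h1 : E ⊔ zpowers a ≤ centralizer {s} := sup_le
    (fun e he => mem_centralizer_singleton_iff.2 (mem_centralizer_iff.1 (hSE hs) e he))
    (fun b hb => mem_centralizer_singleton_iff.2 (mem_centralizer_iff.1 (hfix hb) s hs).symm)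
  have hgen : A ≤ E ⊔ zpowers a := by
    have h1 := relIndex_mul_relIndex E (E ⊔ zpowers a) A le_sup_left (sup_le hE hZA)
    rw [hidx] at h1
    rcases (Nat.dvd_prime hq.out).1 ⟨_, h1.symm⟩ with e | e
    · exact absurd ((relIndex_eq_one.1 e) (mem_sup_right (mem_zpowers a))) haE
    · rw [e] at h1
      exact relIndex_eq_one.1 ((Nat.mul_eq_left hq.out.ne_zero).1 h1)
  exact fun x hx => mem_centralizer_singleton_iff.1 ((hgen.trans h1) hx)

/-- A noncyclic `az` centralizes the `k`-subgroups it normalizes, for the other primes `k` of `F(M)`. -/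
theorem az_le_centralizer_of_noncyclic [hq : Fact q.Prime] [hk : Fact k.Prime] (hcore : core M q ≠ ⊥)
    (hkcore : core M k ≠ ⊥) (hne : k ≠ q) (h2 : q ^ 2 ≤ Nat.card (az M q)) {U : Subgroup X}
    (hU : IsPGroup k U) (hAU : az M q ≤ normalizer (U : Set X)) :
    az M q ≤ centralizer (U : Set X) := by
  rw [le_centralizer_iff]
  have h1 : U ≤ U ⊓ centralizer (az M q : Set X) :=
    CfsgLib.Coprime.le_of_hyperplanes isElementaryAbelian_az h2
      (CfsgLib.CFun.not_dvd_of_isPGroup hne hU) hAU fun E hE hidx => le_inf inf_le_left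
        (h.az_le_centralizer_of_hyperplane hcore hkcore hne h2 hE hidx (hU.to_le inf_le_left)
          inf_le_right (CfsgLib.Coprime.inf_le_normalizer hAU fun x hx =>
            CfsgLib.Coprime.normalizer_le_normalizer_centralizer _ (centralizer_le_normalizer _
              (mem_centralizer_iff.2 fun e he => (az_commute (hE he) hx).eq))))
  exact h1.trans inf_le_right

end MaxOdd

end CfsgLib.Bender
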